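import Cfsg.Agent.Lib.Helper29.TcCox
import Cfsg.Prelude.Def_Spor_Suz
import Cfsg.Agent.Lib.Helper29.SuzE.Tab0

/-! Generated certificate data for SuzE (Suz): tables of a Todd–Coxeter trace and of the coset action. -/

set_option autoImplicit false

namespace Cfsg.Agent.Lib.Helper29.SuzE

open Cfsg.Agent.Lib.Helper29.TcTrace Cfsg.Agent.Lib.Helper29.TcCert Cfsg.Agent.Lib.Helper29.TcPerm

def nodesL : List Cfsg.Spor.Suz.Gen := [.a, .b]
def edgesQ : List (Cfsg.Spor.Suz.Gen × ℕ × Cfsg.Spor.Suz.Gen) := [(.a, 5, .b)]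
def extraWords : List (List (Cfsg.Spor.Suz.Gen × Bool)) := [[(.c, true)],
  [(.d, true)],
  [(.e, true)],
  [(.f, true)],
  [(.g, true)]]
def hWords : List (List (Cfsg.Spor.Suz.Gen × Bool)) := [[(.a, true)]]
def colOf : Cfsg.Spor.Suz.Gen × Bool → ℕ
  | (.a, _) => 0
  | (.b, _) => 1
  | (.c, true) => 2
  | (.c, false) => 3
  | (.d, true) => 4
  | (.d, false) => 5
  | (.e, true) => 6
  | (.e, false) => 7
  | (.f, true) => 8
  | (.f, false) => 9
  | (.g, true) => 10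
  | (.g, false) => 11
def colLetters : List (Cfsg.Spor.Suz.Gen × Bool) := [(.a, true), (.b, true), (.c, true), (.c, false), (.d, true), (.d, false), (.e, true), (.e, false), (.f, true), (.f, false), (.g, true), (.g, false)]
def invL : List ℕ := [0, 1, 3, 2, 5, 4, 7, 6, 9, 8, 11, 10]
def vtree : WTree := (.node (.node (.node (.node (.node (.leaf 21 0 []) (.leaf 16 0 [8, 9])) (.node (.leaf 6 0 [8]) (.leaf 21 0 []))) (.node (.node (.leaf 2 0 [1, 1]) (.leaf 20 0 [0, 12])) (.node (.leaf 12 0 [4, 5]) (.leaf 21 0 [])))) (.node (.node (.node (.leaf 1 0 [0, 1, 0, 1, 0, 1, 0, 1, 0, 1]) (.leaf 18 0 [10, 11])) (.node (.leaf 10 0 [2, 3]) (.leaf 21 0 []))) (.node (.node (.leaf 4 0 [4]) (.leaf 21 0 [])) (.node (.leaf 14 0 [6, 7]) (.leaf 21 0 []))))) (.node (.node (.node (.node (.leaf 0 0 [0, 0]) (.leaf 16 1 [9, 8])) (.node (.leaf 7 0 [10]) (.leaf 21 0 []))) (.node (.node (.leaf 3 0 [2]) (.leaf 20 1 [12, 0]))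 (.node (.leaf 12 1 [5, 4]) (.leaf 21 0 [])))) (.node (.node (.node (.leaf 1 1 [1, 0, 1, 0, 1, 0, 1, 0, 1, 0]) (.leaf 18 1 [11, 10])) (.node (.leaf 10 1 [3, 2]) (.leaf 21 0 []))) (.node (.node (.leaf 5 0 [6]) (.leaf 21 0 [])) (.node (.leaf 14 1 [7, 6]) (.leaf 21 0 []))))))
noncomputable def VL : List ℕ := [V0, V1, V2, V3, V4, V5, V6, V7, V8, V9, V10, V11]
noncomputable def RL : List ℕ := [R0, R1, R2, R3, R4, R5, R6, R7, R8, R9, R10, R11, R12]
noncomputable def D : Data := mkData 8 240 5 8 255 VL RL MG MT PAR PL FIN VERT vtree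
def lay : Layout := ⟨8, 255, 5, 31, 73⟩
def cols : List ℕ := [0, 1, 2, 3, 4, 5, 6, 7, 8, 9, 10, 11]
def baseL : List (List ℕ) := [[0, 0],
  [0, 1, 0, 1, 0, 1, 0, 1, 0, 1],
  [1, 1],
  [2],
  [4],
  [6],
  [8],
  [10],
  [0, 0],
  [1, 1],
  [2, 3],
  [3, 2],
  [4, 5],
  [5, 4],
  [6, 7],
  [7, 6],
  [8, 9],
  [9, 8],
  [10, 11],
  [11, 10],
  [0, 12]]
noncomputable def LL : List ℕ := [L0, L1, L2, L3, L4, L5, L6, L7, L8, L9, L10, L11]
noncomputable def P : LP where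
  WL := 8
  WLn := 40
  mskL := 255
  LL := LL
  cols := [0, 1, 2, 3, 4, 5, 6, 7, 8, 9, 10, 11]
  rels := [[0, 0],
    [0, 1, 0, 1, 0, 1, 0, 1, 0, 1],
    [1, 1],
    [2],
    [4],
    [6],
    [8],
    [10],
    [0, 0],
    [1, 1],
    [2, 3],
    [3, 2],
    [4, 5],
    [5, 4],
    [6, 7],
    [7, 6],
    [8, 9],
    [9, 8],
    [10, 11],
    [11, 10]]
  hws := [[0]]
  twl := [[],
    [0],
    [0],
    [1],
    [2],
    [3],
    [4],
    [5],
    [6],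
    [7],
    [8],
    [9],
    [10],
    [11]]
  nH := 1
  bounds := [8, 24]

end Cfsg.Agent.Lib.Helper29.SuzE
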