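import Cfsg.Agent.Lib.Helper29.SuzE.Data

set_option autoImplicit false
set_option Elab.async false

namespace Cfsg.Agent.Lib.Helper29.SuzE

open Cfsg.Agent.Lib.Helper29.TcTrace Cfsg.Agent.Lib.Helper29.TcCert Cfsg.Agent.Lib.Helper29.TcPerm

theorem ublk_0 : chkBlk D lay cols 128 30 0 0x13300000000000000008980000000000000003cc0000000000000001a60000000000000000b300000000000000009680000000000000004340000000000000001da0000000000000000cd00000000000000005689ca307b9ac5a86000000000000000000024e000000000000000107000000000000000073800000000000000031c00000000000000014e2728c1ee6b16a0040000000000000000009080000000000000004040000000000000001c20000000000000000c100000000000000005089ca307b9ac5a88000000000000000000024000000000000000010000000000000000007000000000000000003000000000000000001402728c1ee6b16a00400139460f7358b5128000 = true := by decide +kernel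
theorem up_0_1 : ∀ b, 0 ≤ b → b < 1 → ∃ J, chkBlk D lay cols 128 30 b J = true := fun b h1 h2 => by
  have hb : b = 0 := Nat.le_antisymm (Nat.le_of_lt_succ h2) h1
  subst hb; exact ⟨_, ublk_0⟩

end Cfsg.Agent.Lib.Helper29.SuzE
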